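import Groth.Agent.DieuPerf.Witt
import Groth.Agent.HensPair.Projective
import Groth.Prelude.Def_W4c1extbt610Disp
import Mathlib.RingTheory.Henselian

/-!
The display of a Dieudonne module over a perfect ring.
-/

set_option autoImplicit false

universe u v

open Submodule

namespace Groth.Agent.DieuPerf.Display

open Groth.Agent.DieuPerf.Witt

variable (p : ℕ) [hp : Fact p.Prime] (k : Type u) [CommRing k] [CharP k p] [PerfectRing k p]

theorem versch_eq (w : WittVector p k) : WittVector.verschiebung w =
    ((WittVector.frobeniusEquiv p k).symm : WittVector p k →+* WittVector p k) w * (p : WittVector p k) := by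
  rw [← WittVector.verschiebung_frobenius]
  congr 1
  exact ((WittVector.frobeniusEquiv p k).apply_symm_apply w).symm

theorem IV_eq : W4c1extbt610.IV p k = P p k := by
  refine le_antisymm (Ideal.span_le.2 ?_) (Ideal.span_le.2 ?_)
  · rintro _ ⟨w, rfl⟩
    rw [versch_eq]
    exact Ideal.mul_mem_left _ _ (Ideal.mem_span_singleton_self _)
  · rintro _ rfl
    have := W4c1extbt610.verschiebung_mem_IV p k (1 : WittVector p k)
    rwa [versch_eq, map_one, one_mul] at this

variable {p k}
variable {M : Type v} [AddCommGroup M] [Module (WittVector p k) M] [Module.Finite (WittVector p k) M]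
  [Module.Projective (WittVector p k) M]

/-- image of a semilinear map over an equivalence -/
def rangeV (V : M →ₛₗ[((WittVector.frobeniusEquiv p k).symm : WittVector p k →+* WittVector p k)] M) :
    Submodule (WittVector p k) M where
  carrier := Set.range V
  add_mem' := by rintro _ _ ⟨a, rfl⟩ ⟨b, rfl⟩; exact ⟨a + b, map_add V a b⟩
  zero_mem' := ⟨0, map_zero V⟩
  smul_mem' := by
    rintro c _ ⟨a, rfl⟩
    refine ⟨WittVector.frobeniusEquiv p k c • a, ?_⟩
    rw [LinearMap.map_smulₛₗ]
    exact congrArg (· • V a) ((WittVector.frobeniusEquiv p k).symm_apply_apply c)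

variable (F : M →ₛₗ[(WittVector.frobenius : WittVector p k →+* WittVector p k)] M)
  (V : M →ₛₗ[((WittVector.frobeniusEquiv p k).symm : WittVector p k →+* WittVector p k)] M)
  (hFV : ∀ m : M, F (V m) = (p : WittVector p k) • m) (hVF : ∀ m : M, V (F m) = (p : WittVector p k) • m)

omit [Module.Finite (WittVector p k) M] in
theorem torsionFree {z : M} (hz : (p : WittVector p k) • z = 0) : z = 0 := by
  have h2 := mem_of_p_smul (I := (⊥ : Ideal (WittVector p k))) (I' := (⊥ : Ideal (WittVector p k)))
    (hasCoord_proj (p := p) (k := k) (M := M)) (fun c hc => by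
      rw [sup_bot_eq, Ideal.mem_bot] at hc
      exact Ideal.mem_bot.2 (WittVector.eq_zero_of_p_mul_eq_zero c (by rw [mul_comm]; exact hc)))
    (z := z) (by rw [hz]; exact zero_mem _)
  simpa using h2

include hVF in
omit [Module.Finite (WittVector p k) M] [Module.Projective (WittVector p k) M] in
theorem PM_le : PM p k M ≤ rangeV V := fun z hz => by
  obtain ⟨y, rfl⟩ := exists_of_mem_PM hz
  exact ⟨F y, hVF y⟩

include hFV hVF in
theorem exists_normal : ∃ L T : Submodule (WittVector p k) M, IsCompl L T ∧
    rangeV V = L ⊔ W4c1extbt610.IV p k • T := by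
  let R := WittVector p k ⧸ P p k
  haveI : Module.Finite R (M ⧸ PM p k M) := Module.Finite.of_restrictScalars_finite (WittVector p k) _ _
  haveI := projective_mod_V F V hFV hVF inferInstance (hasCoord_proj) bot_le (fun q hq c hc => hJq_bot q hq c hc)
  let U : Submodule R (M ⧸ PM p k M) := span R (Set.range fun m : M => (PM p k M).mkQ (V m))
  obtain ⟨sec, hsec⟩ := Module.projective_lifting_property U.mkQ LinearMap.id (Submodule.mkQ_surjective U)
  let π : (M ⧸ PM p k M) →ₗ[R] (M ⧸ PM p k M) := LinearMap.id - sec.comp U.mkQ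
  have hπU : ∀ z, π z ∈ U := fun z => by
    rw [← Submodule.Quotient.mk_eq_zero]
    show Submodule.Quotient.mk (z - sec (Submodule.Quotient.mk z)) = 0
    rw [Submodule.Quotient.mk_sub]
    exact sub_eq_zero.2 (LinearMap.congr_fun hsec _).symm
  have hπid : ∀ z ∈ U, π z = z := fun z hz => by
    show z - sec (Submodule.Quotient.mk z) = z
    rw [(Submodule.Quotient.mk_eq_zero _).2 hz, map_zero, sub_zero]
  obtain ⟨M0, hM0⟩ := Module.projective_lifting_property (PM p k M).mkQ
    ((π.restrictScalars (WittVector p k)).comp (PM p k M).mkQ) (Submodule.mkQ_surjective _)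
  have h0 : ∀ x, Submodule.Quotient.mk (M0 x) = π (Submodule.Quotient.mk x) := fun x => LinearMap.congr_fun hM0 x
  haveI : HenselianRing (WittVector p k) (P p k) := IsAdicComplete.henselianRing _ _
  obtain ⟨e, he, heM⟩ := Groth.Agent.HensPair.Projective.exists_idempotent_end (I := P p k) M0 fun x =>
    (Submodule.Quotient.eq _).1 (by rw [h0, h0, hπid _ (hπU _)])
  have hmk : ∀ x, (Submodule.Quotient.mk (e x) : M ⧸ PM p k M) = π (Submodule.Quotient.mk x) := fun x =>
    ((Submodule.Quotient.eq _).2 (heM x)).trans (h0 x)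
  have hQ : ∀ m, m ∈ rangeV V ↔ (Submodule.Quotient.mk m : M ⧸ PM p k M) ∈ U := fun m => by
    refine ⟨fun ⟨a, ha⟩ => subset_span ⟨a, congrArg Submodule.Quotient.mk ha⟩, fun hm => ?_⟩
    have h1 : (Submodule.Quotient.mk m : M ⧸ PM p k M) ∈ (rangeV V).map (PM p k M).mkQ := by
      have hs : U.restrictScalars (WittVector p k) ≤ (rangeV V).map (PM p k M).mkQ := by
        rw [Submodule.restrictScalars_span (WittVector p k) R Ideal.Quotient.mk_surjective, Submodule.span_le]
        rintro _ ⟨a, rfl⟩
        exact ⟨V a, ⟨a, rfl⟩, rfl⟩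
      exact hs hm
    obtain ⟨m', hm', hmm⟩ := h1
    have h2 : m' - m ∈ rangeV V := PM_le F V hVF ((Submodule.Quotient.eq _).1 hmm)
    simpa using sub_mem hm' h2
  refine ⟨LinearMap.range e, LinearMap.ker e, LinearMap.IsIdempotentElem.isCompl (show IsIdempotentElem e from LinearMap.ext he), ?_⟩
  rw [IV_eq]
  refine le_antisymm (fun m hm => ?_) (sup_le ?_ ((Submodule.smul_mono le_rfl le_top).trans (PM_le F V hVF)))
  · have h1 : m - e m ∈ PM p k M := (Submodule.Quotient.eq _).1 (by rw [hmk, hπid _ ((hQ m).1 hm)])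
    obtain ⟨y, hy⟩ := exists_of_mem_PM h1
    have h2 : (p : WittVector p k) • (y - e y) = m - e m := by
      rw [smul_sub, ← map_smul, hy, map_sub, he, sub_self, sub_zero]
    refine Submodule.mem_sup.2 ⟨e m, ⟨m, rfl⟩, _, ?_, add_sub_cancel _ _⟩
    rw [← h2]
    exact Submodule.smul_mem_smul (Ideal.mem_span_singleton_self _) (by
      rw [LinearMap.mem_ker, map_sub, he, sub_self])
  · rintro _ ⟨x, rfl⟩
    rw [hQ, hmk]
    exact hπU _

include hFV hVF in
theorem exists_display : ∃ D : W4c1extbt610.Display3n p k M, D.F = F ∧ (∀ x : M, x ∈ D.Q ↔ x ∈ Set.range V) ∧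
    ∀ (m : M) (h : V m ∈ D.Q), D.Vinv ⟨V m, h⟩ = m := by
  classical
  have hinj : Function.Injective V := fun a b hab => sub_eq_zero.1 (torsionFree (p := p) (k := k) (by
    rw [← hFV, map_sub, hab, sub_self, map_zero]))
  let inv : rangeV V → M := fun x => x.2.choose
  have hinv : ∀ x : rangeV V, V (inv x) = x := fun x => x.2.choose_spec
  let Vinv : rangeV V →ₛₗ[(WittVector.frobenius : WittVector p k →+* WittVector p k)] M :=
    { toFun := inv
      map_add' := fun a b => hinj (by rw [map_add, hinv, hinv, hinv]; rfl)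
      map_smul' := fun c a => hinj (by
        rw [hinv, LinearMap.map_smulₛₗ, hinv]
        exact congrArg (· • (a : M)) ((WittVector.frobeniusEquiv p k).symm_apply_apply c).symm) }
  refine ⟨{ Q := rangeV V
            F := F
            Vinv := Vinv
            finite := inferInstance
            projective := inferInstance
            IV_smul_le := by rw [IV_eq]; exact PM_le F V hVF
            exists_normal := exists_normal F V hFV hVF
            span_range_Vinv := ?_
            Vinv_verschiebung_smul := ?_ }, rfl, fun x => Iff.rfl, fun m h => hinj (hinv _)⟩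
  · refine eq_top_iff.2 fun m _ => subset_span ⟨⟨V m, ⟨m, rfl⟩⟩, hinj ?_⟩
    exact hinv ⟨V m, ⟨m, rfl⟩⟩
  · intro w x
    apply hinj
    show V (inv _) = _
    rw [hinv, LinearMap.map_smulₛₗ, hVF, smul_smul, ← versch_eq]

end Groth.Agent.DieuPerf.Display
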