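import Mathlib.Algebra.Module.Projective
import Mathlib.LinearAlgebra.Basis.VectorSpace
import Mathlib.LinearAlgebra.Matrix.NonsingularInverse
import Mathlib.LinearAlgebra.Matrix.ToLin
import Mathlib.RingTheory.Nakayama
import Mathlib.Algebra.Module.Torsion.Basic
import Mathlib.RingTheory.Ideal.Quotient.Operations
import Mathlib.LinearAlgebra.FiniteDimensional.Defs
import Mathlib.LinearAlgebra.Dimension.StrongRankCondition

/-!
A pair of semilinear maps with zero composite, exact at all residue fields, has a projective cokernel.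
-/

set_option autoImplicit false

universe u v

open Submodule

namespace Groth.Agent.DieuPerf.Exact

variable {R : Type u} [CommRing R] {N : Type v} [AddCommGroup N] [Module R N]

/-- reduction modulo an ideal -/
abbrev red (q : Ideal R) : Submodule R N := q • ⊤

theorem lc_eq {ι : Type*} [Fintype ι] (e : ι → N) (c : ι →₀ R) :
    Finsupp.linearCombination R e c = ∑ i, c i • e i := by
  rw [Finsupp.linearCombination_apply]
  exact Finsupp.sum_fintype c (fun i a => a • e i) fun i => zero_smul R _

variable (q : Ideal R) [q.IsMaximal]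

/-- functionals lifting coordinates -/
theorem exists_coord [Module.Projective R N] {ι : Type*} [DecidableEq ι] (e : ι → N)
    (hli : ∀ c : ι →₀ R, Finsupp.linearCombination R e c ∈ red (N := N) q → ∀ i, c i ∈ q) :
    ∃ φ : ι → (N →ₗ[R] R), ∀ i j, φ i (e j) - (if i = j then 1 else 0) ∈ q := by
  classical
  letI := Ideal.Quotient.field q
  let V := N ⧸ red (N := N) q
  let ē : ι → V := fun i => Submodule.Quotient.mk (e i)
  have hsurj : ∀ x : R ⧸ q, ∃ r : R, Ideal.Quotient.mk q r = x := Ideal.Quotient.mk_surjective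
  have hli' : LinearIndependent (R ⧸ q) ē := by
    rw [linearIndependent_iff]
    intro c hc
    choose r hr using hsurj
    let c' : ι →₀ R := Finsupp.onFinset c.support (fun i => if c i = 0 then 0 else r (c i)) fun i hi => by
      rw [Finsupp.mem_support_iff]
      intro h0; exact hi (if_pos h0)
    have hc' : ∀ i, Ideal.Quotient.mk q (c' i) = c i := fun i => by
      simp only [c', Finsupp.onFinset_apply]
      split_ifs with h0
      · rw [map_zero, h0]
      · exact hr _
    have hmem : Finsupp.linearCombination R e c' ∈ red (N := N) q := by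
      rw [← Submodule.Quotient.mk_eq_zero, ← hc, Finsupp.linearCombination_apply, Finsupp.linearCombination_apply]
      rw [Finsupp.sum_of_support_subset c' Finsupp.support_onFinset_subset (fun i a => a • e i) (fun i _ => zero_smul R _)]
      rw [Finsupp.sum, ← Submodule.mkQ_apply, map_sum]
      refine Finset.sum_congr rfl fun i _ => ?_
      rw [map_smul, ← hc' i]
      rfl
    ext i
    rw [← hc' i]
    exact Ideal.Quotient.eq_zero_iff_mem.2 (hli c' hmem i)
  have hex : ∀ i, ∃ f : N →ₗ[R] R, ∀ j, f (e j) - (if i = j then 1 else 0) ∈ q := fun i => by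
    obtain ⟨L, hL⟩ := (Finsupp.linearCombination (R ⧸ q) ē).exists_leftInverse_of_injective
      (LinearMap.ker_eq_bot.2 hli')
    let g : N →ₗ[R] R ⧸ q := (((Finsupp.lapply i).comp L).restrictScalars R).comp (red (N := N) q).mkQ
    obtain ⟨f, hf⟩ := Module.projective_lifting_property (Ideal.Quotient.mkₐ R q).toLinearMap g Ideal.Quotient.mk_surjective
    refine ⟨f, fun j => Ideal.Quotient.eq.1 ?_⟩
    refine (LinearMap.congr_fun hf (e j)).trans ?_
    have h2 : L (ē j) = Finsupp.single j 1 := by
      have := LinearMap.congr_fun hL (Finsupp.single j 1)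
      simpa using this
    show L (ē j) i = _
    rw [h2, Finsupp.single_apply]
    by_cases hij : i = j <;> simp [hij, Ne.symm]
  choose f hf using hex
  exact ⟨f, hf⟩

/-- dual functionals after inverting a determinant -/
theorem exists_dual [Module.Projective R N] {ι : Type*} [Fintype ι] [DecidableEq ι] (e : ι → N)
    (hli : ∀ c : ι →₀ R, Finsupp.linearCombination R e c ∈ red (N := N) q → ∀ i, c i ∈ q) :
    ∃ (d : R) (c : ι → (N →ₗ[R] R)), d ∉ q ∧ ∀ i j, c i (e j) = if i = j then d else 0 := by
  obtain ⟨φ, hφ⟩ := exists_coord q e hli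
  let G : Matrix ι ι R := Matrix.of fun i j => φ i (e j)
  refine ⟨G.det, fun i => ∑ l, G.adjugate i l • φ l, fun hd => ?_, fun i j => ?_⟩
  · have h1 : Ideal.Quotient.mk q G.det = 1 := by
      rw [RingHom.map_det]
      have : (Ideal.Quotient.mk q).mapMatrix G = 1 := by
        ext a b
        show Ideal.Quotient.mk q (φ a (e b)) = _
        rw [Ideal.Quotient.eq.2 (hφ a b), Matrix.one_apply]
        split_ifs <;> simp
      rw [this, Matrix.det_one]
    rw [Ideal.Quotient.eq_zero_iff_mem.2 hd] at h1
    letI := Ideal.Quotient.field q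
    exact zero_ne_one h1
  · rw [LinearMap.sum_apply]
    show ∑ l, G.adjugate i l * G l j = _
    rw [← Matrix.mul_apply, Matrix.adjugate_mul, Matrix.smul_apply, Matrix.one_apply, smul_eq_mul, mul_ite, mul_one,
      mul_zero]

variable {q}

theorem map_mem_red {σ : R → R} {F : N →+ N} (hF : ∀ a x, F (a • x) = σ a • F x) (hσ : ∀ a ∈ q, σ a ∈ q)
    {x : N} (hx : x ∈ red (N := N) q) : F x ∈ red (N := N) q := by
  induction hx using Submodule.smul_induction_on' with
  | smul a ha n _ => rw [hF]; exact Submodule.smul_mem_smul (hσ a ha) Submodule.mem_top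
  | add x _ y _ hx hy => rw [map_add]; exact add_mem hx hy

/-- generators from a set, independent modulo `q` and spanning the set modulo `q` -/
theorem exists_gen [Module.Finite R N] (q : Ideal R) [q.IsMaximal] (f : N → N) :
    ∃ (s : ℕ) (x : Fin s → N),
      (∀ c : Fin s →₀ R, Finsupp.linearCombination R (f ∘ x) c ∈ red (N := N) q → ∀ i, c i ∈ q) ∧
      ∀ m, f m ∈ span R (Set.range (f ∘ x)) ⊔ red (N := N) q := by
  classical
  letI := Ideal.Quotient.field q
  let π : N →ₗ[R] N ⧸ red (N := N) q := (red (N := N) q).mkQ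
  haveI : Module.Finite (R ⧸ q) (N ⧸ red (N := N) q) := Module.Finite.of_restrictScalars_finite R _ _
  obtain ⟨b, hb, hspan, hli⟩ := exists_linearIndependent (R ⧸ q) (Set.range fun m => π (f m))
  haveI : Finite b := hli.finite
  obtain ⟨s, ⟨e⟩⟩ := Finite.exists_equiv_fin b
  choose x hx using fun i : Fin s => hb (e.symm i).2
  refine ⟨s, x, fun c hc i => ?_, fun m => ?_⟩
  · have h0 : ∑ j, Ideal.Quotient.mk q (c j) • (e.symm j : N ⧸ red (N := N) q) = 0 := by
      rw [← (Submodule.Quotient.mk_eq_zero _).2 hc, lc_eq, ← Submodule.mkQ_apply, map_sum]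
      exact Finset.sum_congr rfl fun j _ => by rw [map_smul, Function.comp_apply, ← hx j]; rfl
    exact Ideal.Quotient.eq_zero_iff_mem.1 (Fintype.linearIndependent_iff.1 (hli.comp _ e.symm.injective) _ h0 i)
  · have hm : π (f m) ∈ span (R ⧸ q) b := by rw [hspan]; exact subset_span ⟨m, rfl⟩
    have hle : (span (R ⧸ q) b).restrictScalars R ≤ (span R (Set.range (f ∘ x))).map π := by
      rw [Submodule.restrictScalars_span R (R ⧸ q) Ideal.Quotient.mk_surjective, Submodule.span_le]
      intro z hz
      exact ⟨f (x (e ⟨z, hz⟩)), subset_span ⟨e ⟨z, hz⟩, rfl⟩, (hx (e ⟨z, hz⟩)).trans (by rw [Equiv.symm_apply_apply])⟩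
    have h2 : f m ∈ ((span R (Set.range (f ∘ x))).map π).comap π := hle hm
    rwa [Submodule.comap_map_eq, Submodule.ker_mkQ] at h2

/-- the cokernel of `V` is projective -/
theorem projective_coker [Module.Finite R N] [Module.Projective R N] (σ : R ≃+* R) (F V : N →+ N)
    (hF : ∀ a x, F (a • x) = σ a • F x) (hV : ∀ a x, V (a • x) = σ.symm a • V x) (hFV : ∀ x, F (V x) = 0)
    (hσ : ∀ (q : Ideal R), q.IsMaximal → ∀ a, σ a ∈ q ↔ a ∈ q)
    (hex : ∀ (q : Ideal R), q.IsMaximal → ∀ m, F m ∈ red (N := N) q → m ∈ span R (Set.range V) ⊔ red (N := N) q) :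
    Module.Projective R (N ⧸ span R (Set.range V)) := by
  classical
  let U := span R (Set.range V)
  let I : Ideal R :=
    { carrier := {a | ∃ π : N →ₗ[R] N, (∀ z, π z ∈ U) ∧ ∀ z ∈ U, π z = a • z}
      add_mem' := fun {a b} ⟨f, hf, hf'⟩ ⟨g, hg, hg'⟩ =>
        ⟨f + g, fun z => add_mem (hf z) (hg z), fun z hz => by rw [LinearMap.add_apply, hf' z hz, hg' z hz, add_smul]⟩
      zero_mem' := ⟨0, fun z => zero_mem _, fun z _ => by simp⟩
      smul_mem' := fun c a ⟨f, hf, hf'⟩ =>
        ⟨c • f, fun z => smul_mem _ c (hf z), fun z hz => by rw [LinearMap.smul_apply, hf' z hz, smul_eq_mul, mul_smul]⟩ }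
  suffices h : I = ⊤ by
    obtain ⟨π, hπ, hπ'⟩ := (h ▸ Submodule.mem_top : (1 : R) ∈ I)
    exact Module.Projective.of_split (U.liftQ (LinearMap.id - π) (fun z hz => by
      rw [LinearMap.mem_ker, LinearMap.sub_apply, LinearMap.id_apply, hπ' z hz, one_smul, sub_self])) U.mkQ
      (LinearMap.ext fun z => by
        obtain ⟨z, rfl⟩ := Submodule.Quotient.mk_surjective _ z
        show Submodule.Quotient.mk (z - π z) = Submodule.Quotient.mk z
        rw [Submodule.Quotient.eq, sub_sub_cancel_left]
        exact neg_mem (hπ z))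
  by_contra hI
  obtain ⟨q, hq, hle⟩ := Ideal.exists_le_maximal I hI
  obtain ⟨s, x, hxi, hxs⟩ := exists_gen q F
  obtain ⟨t, y, hyi, hys⟩ := exists_gen q V
  let e : Fin s ⊕ Fin t → N := Sum.elim x (V ∘ y)
  have hFlc : ∀ c : Fin s ⊕ Fin t → R, F (∑ i, c i • e i) = ∑ i, σ (c (Sum.inl i)) • F (x i) := fun c => by
    rw [map_sum, Fintype.sum_sum_type]
    simp [e, hF, hFV]
  have hei : ∀ c : Fin s ⊕ Fin t →₀ R, Finsupp.linearCombination R e c ∈ red (N := N) q → ∀ i, c i ∈ q := by
    intro c hc
    rw [lc_eq] at hc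
    have h1 : ∀ i, c (Sum.inl i) ∈ q := fun i => by
      have h2 := map_mem_red hF (fun a ha => (hσ q hq a).2 ha) hc
      rw [hFlc] at h2
      refine (hσ q hq _).1 (hxi (Finsupp.equivFunOnFinite.symm fun i => σ (c (Sum.inl i))) ?_ i)
      rw [lc_eq]
      exact h2
    rw [Fintype.sum_sum_type] at hc
    have h3 : ∑ j, c (Sum.inr j) • e (Sum.inr j) ∈ red (N := N) q := by
      have h4 := sub_mem hc (Submodule.sum_mem (red (N := N) q)
        (fun i (_ : i ∈ Finset.univ) => Submodule.smul_mem_smul (h1 i) (Submodule.mem_top (x := e (Sum.inl i)))))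
      rwa [add_sub_cancel_left] at h4
    intro i
    rcases i with i | j
    · exact h1 i
    · refine hyi (Finsupp.equivFunOnFinite.symm fun j => c (Sum.inr j)) ?_ j
      rw [lc_eq]
      exact h3
  have hgen : (⊤ : Submodule R N) ≤ span R (Set.range e) ⊔ red (N := N) q := fun m _ => by
    obtain ⟨u, hu, w, hw, huw⟩ := Submodule.mem_sup.1 (hxs m)
    obtain ⟨c, rfl⟩ := (Submodule.mem_span_range_iff_exists_fun R).1 hu
    have h1 : F (m - ∑ i, σ.symm (c i) • x i) ∈ red (N := N) q := by
      have h2 : F (∑ i, σ.symm (c i) • x i) = ∑ i, c i • F (x i) := by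
        rw [map_sum]; exact Finset.sum_congr rfl fun i _ => by rw [hF, RingEquiv.apply_symm_apply]
      rw [map_sub, h2, ← huw]
      show _ + w - (∑ i, c i • F (x i)) ∈ red (N := N) q
      simpa using hw
    have hU : U ≤ span R (Set.range e) ⊔ red (N := N) q := Submodule.span_le.2 fun _ ⟨n', hn'⟩ => by
      subst hn'
      have hsp : span R (Set.range (V ∘ y)) ≤ span R (Set.range e) :=
        Submodule.span_mono fun _ ⟨j, hj⟩ => ⟨Sum.inr j, hj⟩
      exact SetLike.le_def.1 (sup_le_sup hsp (le_refl (red (N := N) q))) (hys n')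
    have h3 : m - ∑ i, σ.symm (c i) • x i ∈ span R (Set.range e) ⊔ red (N := N) q :=
      sup_le hU le_sup_right (hex q hq _ h1)
    have h4 : ∑ i, σ.symm (c i) • x i ∈ span R (Set.range e) ⊔ red (N := N) q :=
      le_sup_left (a := span R (Set.range e)) (sum_mem fun i _ => smul_mem _ _ (subset_span ⟨Sum.inl i, rfl⟩))
    simpa using add_mem h3 h4
  obtain ⟨r, hr, hr'⟩ : ∃ r : R, r ∉ q ∧ ∀ z : N, r • z ∈ span R (Set.range e) := by
    have hle' : (⊤ : Submodule R (N ⧸ span R (Set.range e))) ≤ q • ⊤ := by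
      rintro z -
      obtain ⟨z, rfl⟩ := Submodule.Quotient.mk_surjective _ z
      obtain ⟨a, ha, b, hb, hab⟩ := Submodule.mem_sup.1 (hgen (Submodule.mem_top (x := z)))
      rw [← hab, Submodule.Quotient.mk_add, (Submodule.Quotient.mk_eq_zero _).2 ha, zero_add, ← Submodule.mkQ_apply]
      have := Submodule.mem_map_of_mem (f := (span R (Set.range e)).mkQ) hb
      rw [Submodule.map_smul''] at this
      exact Submodule.smul_mono le_rfl le_top this
    obtain ⟨r, hr1, hr2⟩ := Submodule.exists_sub_one_mem_and_smul_eq_zero_of_fg_of_le_smul q ⊤ Module.Finite.fg_top hle'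
    refine ⟨r, fun hrq => hq.ne_top ((Ideal.eq_top_iff_one q).2 (by simpa using sub_mem hrq hr1)), fun z => ?_⟩
    exact (Submodule.Quotient.mk_eq_zero _).1 ((Submodule.Quotient.mk_smul _ r z).trans (hr2 _ Submodule.mem_top))
  obtain ⟨d, cc, hd, hcc⟩ := exists_dual q e hei
  obtain ⟨d', ψ, hd', hψ⟩ := exists_dual q (F ∘ x) hxi
  let P : N →ₗ[R] N := σ.symm d' • ∑ j, (cc (Sum.inr j)).smulRight (V (y j))
  have hP : ∀ z, P z = σ.symm d' • ∑ j, cc (Sum.inr j) z • V (y j) := fun z => by
    simp [P, LinearMap.sum_apply]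
  have hlast : σ.symm d' * (d * r) ∈ I := by
    refine ⟨r • P, fun z => smul_mem _ r ?_, fun z hz => ?_⟩
    · rw [hP]
      exact smul_mem _ _ (sum_mem fun j _ => smul_mem _ _ (subset_span ⟨y j, rfl⟩))
    · obtain ⟨c, hc⟩ := (Submodule.mem_span_range_iff_exists_fun R).1 (hr' z)
      have hFz : ∀ u ∈ U, F u = 0 := fun u hu => by
        induction hu using Submodule.span_induction with
        | mem u hu => obtain ⟨w, rfl⟩ := hu; exact hFV w
        | zero => exact map_zero F
        | add u v _ _ hu hv => rw [map_add, hu, hv, add_zero]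
        | smul a u _ hu => rw [hF, hu, smul_zero]
      have h1 : ∑ i, σ (c (Sum.inl i)) • F (x i) = 0 := by rw [← hFlc, hc, hF, hFz z hz, smul_zero]
      have h2 : ∀ i, σ.symm d' * c (Sum.inl i) = 0 := fun i => by
        have h3 := congrArg (ψ i) h1
        simp only [map_sum, map_smul, map_zero, smul_eq_mul, Function.comp_apply] at h3
        have h4 : ∀ j, ψ i (F (x j)) = if i = j then d' else 0 := hψ i
        simp only [h4, mul_ite, mul_zero, Finset.sum_ite_eq, Finset.mem_univ, if_true] at h3
        apply σ.injective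
        rw [map_mul, RingEquiv.apply_symm_apply, map_zero, mul_comm]
        exact h3
      have h5 : ∀ j, cc (Sum.inr j) (r • z) = d * c (Sum.inr j) := fun j => by
        rw [← hc, map_sum]
        simp [hcc, mul_comm]
      rw [LinearMap.smul_apply, ← map_smul, hP]
      simp only [h5]
      rw [mul_smul, mul_smul, ← hc, Fintype.sum_sum_type, smul_add, smul_add]
      have h6 : σ.symm d' • d • ∑ i, c (Sum.inl i) • e (Sum.inl i) = 0 := by
        simp only [Finset.smul_sum, smul_smul]
        exact Finset.sum_eq_zero fun i _ => by rw [show σ.symm d' * (d * c (Sum.inl i)) = d * (σ.symm d' * c (Sum.inl i)) by ring, h2, mul_zero, zero_smul]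
      rw [h6, zero_add]
      simp only [Finset.smul_sum, smul_smul]
      rfl
  rcases hq.isPrime.mem_or_mem (hle hlast) with h | h
  · exact hd' (by have := (hσ q hq _).2 h; rwa [RingEquiv.apply_symm_apply] at this)
  · rcases hq.isPrime.mem_or_mem h with h | h
    exacts [hd h, hr h]

end Groth.Agent.DieuPerf.Exact
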