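import Groth.Agent.DieuPerf.WittHensel
import Groth.Agent.HensPair.Projective
import Mathlib.Algebra.Module.Projective
import Mathlib.LinearAlgebra.Projection

/-!
Normal decompositions over Witt vectors of `p`-complete rings.
-/

set_option autoImplicit false

universe u v

open Submodule

namespace Groth.Agent.DieuPerf.Normal

theorem exists_normal {A : Type u} [CommRing A] (I : Ideal A) [HenselianRing A I] {M : Type v} [AddCommGroup M]
    [Module A M] [Module.Finite A M] [Module.Projective A M] (Q C : Submodule A M) (hsup : Q ⊔ C = ⊤)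
    (hinf : Q ⊓ C = I • (⊤ : Submodule A M)) : ∃ L T : Submodule A M, IsCompl L T ∧ Q = L ⊔ I • T := by
  let N := I • (⊤ : Submodule A M)
  have hNQ : N ≤ Q := hinf.ge.trans inf_le_left
  have hNC : N ≤ C := hinf.ge.trans inf_le_right
  have hc : IsCompl (Q.map N.mkQ) (C.map N.mkQ) := by
    constructor
    · rw [disjoint_iff, eq_bot_iff]
      rintro z ⟨⟨a, ha, rfl⟩, b, hb, hab⟩
      have h1 : b - a ∈ N := (Submodule.Quotient.eq _).1 hab
      have h2 : a ∈ C := by simpa using sub_mem hb (hNC h1)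
      exact (Submodule.mem_bot A).2 ((Submodule.Quotient.mk_eq_zero _).2 (hinf.le ⟨ha, h2⟩))
    · rw [codisjoint_iff, ← Submodule.map_sup, hsup, Submodule.map_top, Submodule.range_mkQ]
  let π : (M ⧸ N) →ₗ[A] (M ⧸ N) := (Q.map N.mkQ).subtype.comp ((Q.map N.mkQ).projectionOnto (C.map N.mkQ) hc)
  have hπid : ∀ z ∈ Q.map N.mkQ, π z = z := fun z hz => by
    show (((Q.map N.mkQ).projectionOnto (C.map N.mkQ) hc z : Q.map N.mkQ) : M ⧸ N) = z
    rw [show z = ((⟨z, hz⟩ : Q.map N.mkQ) : M ⧸ N) from rfl, Submodule.projectionOnto_apply_left]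
  obtain ⟨M0, hM0⟩ := Module.projective_lifting_property N.mkQ (π.comp N.mkQ) N.mkQ_surjective
  have h0 : ∀ x, Submodule.Quotient.mk (M0 x) = π (Submodule.Quotient.mk x) := fun x => LinearMap.congr_fun hM0 x
  obtain ⟨e, he, heM⟩ := Groth.Agent.HensPair.Projective.exists_idempotent_end (I := I) M0 fun x =>
    (Submodule.Quotient.eq _).1 (by rw [h0, h0]; exact hπid _ ((Q.map N.mkQ).projectionOnto _ hc _).2)
  have hmk : ∀ x, (Submodule.Quotient.mk (e x) : M ⧸ N) = π (Submodule.Quotient.mk x) := fun x =>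
    ((Submodule.Quotient.eq _).2 (heM x)).trans (h0 x)
  refine ⟨LinearMap.range e, LinearMap.ker e,
    LinearMap.IsIdempotentElem.isCompl (show IsIdempotentElem e from LinearMap.ext he), ?_⟩
  refine le_antisymm (fun m hm => ?_) (sup_le ?_ ((Submodule.smul_mono le_rfl le_top).trans hNQ))
  · have h1 : m - e m ∈ N := (Submodule.Quotient.eq _).1 ((hπid _ ⟨m, hm, rfl⟩).symm.trans (hmk m).symm)
    refine Submodule.mem_sup.2 ⟨e m, ⟨m, rfl⟩, _, ?_, add_sub_cancel _ _⟩
    have h2 : (LinearMap.id - e : M →ₗ[A] M) (m - e m) ∈ (I • (⊤ : Submodule A M)).map (LinearMap.id - e : M →ₗ[A] M) :=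
      Submodule.mem_map_of_mem h1
    rw [Submodule.map_smul''] at h2
    have h3 : (LinearMap.id - e : M →ₗ[A] M) (m - e m) = m - e m := by simp [he]
    rw [h3] at h2
    refine Submodule.smul_mono le_rfl ?_ h2
    rintro _ ⟨y, -, rfl⟩
    simp [he]
  · rintro _ ⟨x, rfl⟩
    obtain ⟨a, ha, hax⟩ : (Submodule.Quotient.mk (e x) : M ⧸ N) ∈ Q.map N.mkQ := by
      rw [hmk]; exact ((Q.map N.mkQ).projectionOnto _ hc _).2
    have h1 : a - e x ∈ Q := hNQ ((Submodule.Quotient.eq _).1 hax)
    simpa using sub_mem ha h1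

end Groth.Agent.DieuPerf.Normal
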