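import Groth.Agent.DieuPerf.Exact
import Mathlib.RingTheory.WittVector.Complete
import Mathlib.RingTheory.WittVector.Domain
import Mathlib.RingTheory.WittVector.Identities
import Mathlib.RingTheory.WittVector.Teichmuller
import Mathlib.RingTheory.WittVector.Frobenius
import Mathlib.Algebra.Module.Torsion.Basic
import Mathlib.RingTheory.Finiteness.Basic

/-!
Dieudonne modules over a perfect ring modulo `p`.
-/

set_option autoImplicit false

universe u v

open Submodule WittVector

namespace Groth.Agent.DieuPerf.Witt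

variable (p : ℕ) [hp : Fact p.Prime] (k : Type u) [CommRing k] [CharP k p] [PerfectRing k p]

noncomputable section

abbrev P : Ideal (WittVector p k) := Ideal.span {(p : (WittVector p k))}

/-- twisted Frobenius on `W/p` -/
noncomputable def sR : ((WittVector p k) ⧸ P p k) ≃+* ((WittVector p k) ⧸ P p k) :=
  (quotientPEquiv.trans (_root_.frobeniusEquiv k p)).trans quotientPEquiv.symm

theorem q_mk (w : (WittVector p k)) : quotientPEquiv (Ideal.Quotient.mk (P p k) w) = w.coeff 0 := quotientPEquiv_mk w

theorem sR_mk (w : (WittVector p k)) : sR p k (Ideal.Quotient.mk (P p k) w) = Ideal.Quotient.mk (P p k) ((WittVector.frobenius : WittVector p k →+* WittVector p k) w) := by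
  apply quotientPEquiv.injective
  rw [sR, RingEquiv.trans_apply, RingEquiv.trans_apply, RingEquiv.apply_symm_apply, q_mk, q_mk, coeff_frobenius_charP]
  rfl

theorem sR_symm_mk (w : (WittVector p k)) : (sR p k).symm (Ideal.Quotient.mk (P p k) w) = Ideal.Quotient.mk (P p k) (((WittVector.frobeniusEquiv p k).symm : WittVector p k →+* WittVector p k) w) := by
  rw [RingEquiv.symm_apply_eq, sR_mk]
  congr 1
  exact ((WittVector.frobeniusEquiv p k).apply_symm_apply w).symm

theorem sR_mem (Q : Ideal ((WittVector p k) ⧸ P p k)) (hQ : Q.IsPrime) (a : (WittVector p k) ⧸ P p k) : sR p k a ∈ Q ↔ a ∈ Q := by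
  have : sR p k a = a ^ p := by
    apply quotientPEquiv.injective
    rw [sR, RingEquiv.trans_apply, RingEquiv.trans_apply, RingEquiv.apply_symm_apply, map_pow]
    rfl
  rw [this]
  exact hQ.pow_mem_iff_mem p hp.out.pos

/-- Witt vectors with all coefficients in a prime -/
noncomputable def aId (q : Ideal k) : Ideal (WittVector p k) := RingHom.ker (WittVector.map (p := p) (Ideal.Quotient.mk q))

theorem mem_aId {q : Ideal k} {x : (WittVector p k)} : x ∈ aId p k q ↔ ∀ i, x.coeff i ∈ q := by
  rw [aId, RingHom.mem_ker, WittVector.ext_iff]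
  refine forall_congr' fun i => ?_
  rw [WittVector.map_coeff, WittVector.zero_coeff, Ideal.Quotient.eq_zero_iff_mem]

theorem tau_mem {q : Ideal k} [q.IsPrime] {x : (WittVector p k)} (hx : x ∈ aId p k q) : ((WittVector.frobeniusEquiv p k).symm : WittVector p k →+* WittVector p k) x ∈ aId p k q := by
  rw [mem_aId] at hx ⊢
  intro i
  refine Ideal.IsPrime.mem_of_pow_mem (I := q) inferInstance p ?_
  rw [← coeff_frobenius_charP]
  rw [show (WittVector.frobenius : WittVector p k →+* WittVector p k) (((WittVector.frobeniusEquiv p k).symm : WittVector p k →+* WittVector p k) x) = x from (WittVector.frobeniusEquiv p k).apply_symm_apply x]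
  exact hx i

theorem of_p_mul {q : Ideal k} [q.IsPrime] {x : (WittVector p k)} (hx : (p : (WittVector p k)) * x ∈ aId p k q) : x ∈ aId p k q := by
  haveI : CharP (k ⧸ q) p := (CharP.charP_iff_prime_eq_zero hp.out).2 (by
    rw [← map_natCast (Ideal.Quotient.mk q), CharP.cast_eq_zero, map_zero])
  rw [aId, RingHom.mem_ker] at hx ⊢
  rw [map_mul, map_natCast] at hx
  exact (mul_eq_zero.1 hx).resolve_left (WittVector.p_nonzero p (k ⧸ q))

theorem lift_max {Q : Ideal ((WittVector p k) ⧸ P p k)} {q : Ideal k} (hq : ∀ w : (WittVector p k), Ideal.Quotient.mk (P p k) w ∈ Q ↔ w.coeff 0 ∈ q)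
    {w : (WittVector p k)} (hw : Ideal.Quotient.mk (P p k) w ∈ Q) : w ∈ aId p k q ⊔ P p k := by
  refine Submodule.mem_sup.2 ⟨WittVector.teichmuller p (w.coeff 0), (mem_aId p k).2 fun i => ?_, w - _, ?_, add_sub_cancel _ _⟩
  · rcases i with - | i
    · rw [teichmuller_coeff_zero]; exact (hq w).1 hw
    · rw [teichmuller_coeff_pos p _ _ (Nat.succ_pos i)]; exact zero_mem _
  · rw [mem_span_p_iff_coeff_zero_eq_zero, ← WittVector.constantCoeff_apply, map_sub, WittVector.constantCoeff_apply,
      WittVector.constantCoeff_apply, teichmuller_coeff_zero, sub_self]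

section

variable {p k}
variable (M : Type v) [AddCommGroup M] [Module (WittVector p k) M]

/-- coordinates modulo `J` -/
def HasCoord (J : Ideal (WittVector p k)) : Prop :=
  ∃ s : M →ₗ[(WittVector p k)] (M →₀ (WittVector p k) ⧸ J), ∀ (m : M) (c : M →₀ (WittVector p k)),
    Finsupp.mapRange (Ideal.Quotient.mk J) (map_zero _) c = s m → Finsupp.linearCombination (WittVector p k) id c = m

variable (p k) in
abbrev PM : Submodule (WittVector p k) M := P p k • (⊤ : Submodule (WittVector p k) M)

variable {M}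

theorem exists_lift {J : Ideal (WittVector p k)} {s : M →ₗ[(WittVector p k)] (M →₀ (WittVector p k) ⧸ J)} (m : M) :
    ∃ c : M →₀ (WittVector p k), Finsupp.mapRange (Ideal.Quotient.mk J) (map_zero _) c = s m :=
  Finsupp.mapRange_surjective _ (map_zero _) Ideal.Quotient.mk_surjective (s m)

theorem proj_quot {J : Ideal (WittVector p k)} (h : HasCoord M J) (hJ : J ≤ P p k) :
    Module.Projective ((WittVector p k) ⧸ P p k) (M ⧸ PM p k M) := by
  obtain ⟨s, hs⟩ := h
  let red' : (M →₀ (WittVector p k) ⧸ J) →ₗ[(WittVector p k)] (M →₀ (WittVector p k) ⧸ P p k) :=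
    Finsupp.mapRange.linearMap (Submodule.liftQ J (Algebra.linearMap (WittVector p k) ((WittVector p k) ⧸ P p k)) fun x hx =>
      LinearMap.mem_ker.2 (Ideal.Quotient.eq_zero_iff_mem.2 (hJ hx)))
  let t : (M ⧸ PM p k M) →ₗ[(WittVector p k)] (M →₀ (WittVector p k) ⧸ P p k) := (PM p k M).liftQ (red'.comp s) (Submodule.smul_le.2 fun a ha m _ => by
    rw [LinearMap.mem_ker, map_smul]
    ext i
    rw [Finsupp.smul_apply, Finsupp.zero_apply, Algebra.smul_def, Ideal.Quotient.algebraMap_eq,
      Ideal.Quotient.eq_zero_iff_mem.2 ha, zero_mul])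
  refine Module.Projective.of_split (LinearMap.extendScalarsOfSurjective Ideal.Quotient.mk_surjective t)
    (Finsupp.linearCombination ((WittVector p k) ⧸ P p k) fun m : M => (Submodule.Quotient.mk m : M ⧸ PM p k M)) (LinearMap.ext fun z => ?_)
  obtain ⟨m, rfl⟩ := Submodule.Quotient.mk_surjective _ z
  obtain ⟨c, hc⟩ := exists_lift (s := s) m
  show Finsupp.linearCombination ((WittVector p k) ⧸ P p k) _ (red' (s m)) = Submodule.Quotient.mk m
  have e : red' (s m) = Finsupp.mapRange (Ideal.Quotient.mk (P p k)) (map_zero _) c := by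
    rw [← hc]; ext i; rfl
  have hm := congrArg (Submodule.Quotient.mk (p := PM p k M)) (hs m c hc)
  rw [e, ← hm]
  clear hm e hc
  induction c using Finsupp.induction_linear with
  | zero => simp
  | add f g hf hg => rw [Finsupp.mapRange_add (fun _ _ => map_add _ _ _), map_add, map_add, hf, hg, Submodule.Quotient.mk_add]
  | single i a => rw [Finsupp.mapRange_single, Finsupp.linearCombination_single, Finsupp.linearCombination_single]; rfl

theorem mem_of_p_smul {J I I' : Ideal (WittVector p k)} (h : HasCoord M J) (hJ : ∀ c : (WittVector p k), (p : (WittVector p k)) * c ∈ I ⊔ J → c ∈ I') {z : M}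
    (hz : (p : (WittVector p k)) • z ∈ I • (⊤ : Submodule (WittVector p k) M)) : z ∈ I' • (⊤ : Submodule (WittVector p k) M) := by
  obtain ⟨s, hs⟩ := h
  obtain ⟨c, hc⟩ := exists_lift (s := s) z
  have hmem : ∀ w ∈ I • (⊤ : Submodule (WittVector p k) M), ∀ i, ∃ a ∈ I, s w i = Ideal.Quotient.mk J a := fun w hw => by
    induction hw using Submodule.smul_induction_on' with
    | smul a ha n _ =>
      intro i
      obtain ⟨b, hb⟩ := Ideal.Quotient.mk_surjective (s n i)
      exact ⟨a * b, I.mul_mem_right _ ha, by rw [map_smul, Finsupp.smul_apply, map_mul, hb]; rfl⟩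
    | add x _ y _ hx hy =>
      intro i
      obtain ⟨a, ha, ea⟩ := hx i
      obtain ⟨b, hb, eb⟩ := hy i
      exact ⟨a + b, add_mem ha hb, by rw [map_add, Finsupp.add_apply, map_add, ea, eb]⟩
  rw [← hs z c hc, Finsupp.linearCombination_apply]
  refine Submodule.sum_mem _ fun i _ => Submodule.smul_mem_smul (hJ _ ?_) Submodule.mem_top
  obtain ⟨a, ha, ea⟩ := hmem _ hz i
  rw [map_smul, Finsupp.smul_apply, ← hc, Finsupp.mapRange_apply] at ea
  have e2 : Ideal.Quotient.mk J ((p : (WittVector p k)) * c i) = Ideal.Quotient.mk J a := by rw [map_mul]; exact ea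
  exact Submodule.mem_sup.2 ⟨a, ha, _, Ideal.Quotient.eq.1 e2, by ring⟩

theorem exists_of_mem_PM {z : M} (hz : z ∈ PM p k M) : ∃ y : M, (p : (WittVector p k)) • y = z := by
  rw [PM, P, Submodule.ideal_span_singleton_smul] at hz
  obtain ⟨y, -, hy⟩ := hz
  exact ⟨y, hy⟩

variable (F : M →ₛₗ[(WittVector.frobenius : WittVector p k →+* WittVector p k)] M) (V : M →ₛₗ[((WittVector.frobeniusEquiv p k).symm : WittVector p k →+* WittVector p k)] M) (hFV : ∀ m : M, F (V m) = (p : (WittVector p k)) • m) (hVF : ∀ m : M, V (F m) = (p : (WittVector p k)) • m)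

include hFV in
theorem F_V_mem (m : M) : F (V m) ∈ PM p k M := by
  rw [hFV]
  exact Submodule.smul_mem_smul (Ideal.mem_span_singleton_self _) Submodule.mem_top

theorem F_PM {z : M} (hz : z ∈ PM p k M) : F z ∈ PM p k M := by
  obtain ⟨y, rfl⟩ := exists_of_mem_PM hz
  rw [LinearMap.map_smulₛₗ, map_natCast]
  exact Submodule.smul_mem_smul (Ideal.mem_span_singleton_self _) Submodule.mem_top

theorem V_PM {z : M} (hz : z ∈ PM p k M) : V z ∈ PM p k M := by
  obtain ⟨y, rfl⟩ := exists_of_mem_PM hz
  rw [LinearMap.map_smulₛₗ, map_natCast]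
  exact Submodule.smul_mem_smul (Ideal.mem_span_singleton_self _) Submodule.mem_top

/-- induced additive map on `M/pM` -/
noncomputable def Fb : (M ⧸ PM p k M) →+ (M ⧸ PM p k M) :=
  ((PM p k M).mapQ (PM p k M) F fun _ hz => F_PM F hz).toAddMonoidHom

noncomputable def Vb : (M ⧸ PM p k M) →+ (M ⧸ PM p k M) :=
  ((PM p k M).mapQ (PM p k M) V fun _ hz => V_PM V hz).toAddMonoidHom

theorem range_Vb : Set.range (Vb V) = Set.range fun m : M => (PM p k M).mkQ (V m) := by
  ext z
  constructor
  · rintro ⟨x, rfl⟩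
    obtain ⟨m, rfl⟩ := Submodule.Quotient.mk_surjective _ x
    exact ⟨m, rfl⟩
  · rintro ⟨m, rfl⟩
    exact ⟨Submodule.Quotient.mk m, rfl⟩

include hFV hVF in
theorem projective_mod_V {J : Ideal (WittVector p k)} (hfin : Module.Finite ((WittVector p k) ⧸ P p k) (M ⧸ PM p k M))
    (h : HasCoord M J) (hJ : J ≤ P p k)
    (hJq : ∀ q : Ideal k, q.IsPrime → ∀ c : (WittVector p k), (p : (WittVector p k)) * c ∈ aId p k q ⊔ J → c ∈ aId p k q ⊔ P p k) :
    Module.Projective ((WittVector p k) ⧸ P p k) ((M ⧸ PM p k M) ⧸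
      Submodule.span ((WittVector p k) ⧸ P p k) (Set.range fun m : M => (PM p k M).mkQ (V m))) := by
  haveI := hfin
  haveI := proj_quot h hJ
  rw [← range_Vb V]
  refine Groth.Agent.DieuPerf.Exact.projective_coker (sR p k) (Fb F) (Vb V) ?_ ?_ ?_
    (fun Q hQ => sR_mem p k Q hQ.isPrime) fun Q hQ => ?_
  · intro a x
    obtain ⟨w, rfl⟩ := Ideal.Quotient.mk_surjective a
    obtain ⟨m, rfl⟩ := Submodule.Quotient.mk_surjective _ x
    rw [sR_mk]
    exact congrArg Submodule.Quotient.mk (LinearMap.map_smulₛₗ F w m)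
  · intro a x
    obtain ⟨w, rfl⟩ := Ideal.Quotient.mk_surjective a
    obtain ⟨m, rfl⟩ := Submodule.Quotient.mk_surjective _ x
    rw [sR_symm_mk]
    exact congrArg Submodule.Quotient.mk (LinearMap.map_smulₛₗ V w m)
  · intro x
    obtain ⟨m, rfl⟩ := Submodule.Quotient.mk_surjective _ x
    exact (Submodule.Quotient.mk_eq_zero _).2 (F_V_mem F V hFV m)
  · let q : Ideal k := Q.comap ((quotientPEquiv (p := p) (k := k)).symm : k →+* (WittVector p k) ⧸ P p k)
    haveI := hQ.isPrime
    haveI : q.IsPrime := Ideal.IsPrime.comap _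
    have hq : ∀ w : (WittVector p k), Ideal.Quotient.mk (P p k) w ∈ Q ↔ w.coeff 0 ∈ q := fun w => by
      rw [Ideal.mem_comap, RingEquiv.coe_toRingHom, ← q_mk, RingEquiv.symm_apply_apply]
    let L : Ideal (WittVector p k) := aId p k q ⊔ P p k
    have hdown : ∀ z ∈ L • (⊤ : Submodule (WittVector p k) M),
        (Submodule.Quotient.mk z : M ⧸ PM p k M) ∈ Groth.Agent.DieuPerf.Exact.red Q := fun z hz => by
      induction hz using Submodule.smul_induction_on' with
      | smul a ha n _ =>
        have hmem : Ideal.Quotient.mk (P p k) a ∈ Q := by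
          obtain ⟨b, hb, c, hc, rfl⟩ := Submodule.mem_sup.1 ha
          rw [map_add, Ideal.Quotient.eq_zero_iff_mem.2 hc, add_zero, hq]
          exact (mem_aId p k).1 hb 0
        show (Ideal.Quotient.mk (P p k) a) • (Submodule.Quotient.mk n : M ⧸ PM p k M) ∈ Q • (⊤ : Submodule _ (M ⧸ PM p k M))
        exact Submodule.smul_mem_smul hmem Submodule.mem_top
      | add x _ y _ hx hy => exact add_mem hx hy
    have hup : ∀ z ∈ Groth.Agent.DieuPerf.Exact.red (N := M ⧸ PM p k M) Q, ∃ m ∈ L • (⊤ : Submodule (WittVector p k) M),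
        Submodule.Quotient.mk m = z := fun z hz => by
      induction hz using Submodule.smul_induction_on' with
      | smul a ha n _ =>
        obtain ⟨w, rfl⟩ := Ideal.Quotient.mk_surjective a
        obtain ⟨m, rfl⟩ := Submodule.Quotient.mk_surjective _ n
        exact ⟨w • m, Submodule.smul_mem_smul (lift_max p k hq ha) Submodule.mem_top, rfl⟩
      | add x _ y _ hx hy =>
        obtain ⟨m, hm, rfl⟩ := hx
        obtain ⟨n, hn, rfl⟩ := hy
        exact ⟨m + n, add_mem hm hn, rfl⟩
    intro x hx
    obtain ⟨m, rfl⟩ := Submodule.Quotient.mk_surjective _ x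
    obtain ⟨z, hz, hzm⟩ := hup _ hx
    have hFm : F m ∈ L • (⊤ : Submodule (WittVector p k) M) := by
      have h1 : z - F m ∈ PM p k M := (Submodule.Quotient.eq _).1 hzm
      have h2 := sub_mem hz (Submodule.smul_mono le_sup_right le_rfl h1)
      rwa [sub_sub_cancel] at h2
    rw [show L = aId p k q ⊔ P p k from rfl, Submodule.sup_smul] at hFm
    obtain ⟨a, ha, b, hb, hab⟩ := Submodule.mem_sup.1 hFm
    obtain ⟨y, rfl⟩ := exists_of_mem_PM hb
    have hFa : F (m - V y) = a := by rw [map_sub, hFV, ← hab, add_sub_cancel_right]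
    have hpa : (p : (WittVector p k)) • (m - V y) ∈ aId p k q • (⊤ : Submodule (WittVector p k) M) := by
      rw [← hVF, hFa]
      clear hFa hab
      induction ha using Submodule.smul_induction_on' with
      | smul c hc n _ => rw [LinearMap.map_smulₛₗ]; exact Submodule.smul_mem_smul (tau_mem p k hc) Submodule.mem_top
      | add x _ y _ hx hy => rw [map_add]; exact add_mem hx hy
    have hmy : m - V y ∈ L • (⊤ : Submodule (WittVector p k) M) := mem_of_p_smul h (hJq q inferInstance) hpa
    rw [show (Submodule.Quotient.mk m : M ⧸ PM p k M) = Submodule.Quotient.mk (V y) + Submodule.Quotient.mk (m - V y) by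
      rw [← Submodule.Quotient.mk_add, add_sub_cancel]]
    exact Submodule.add_mem_sup (Submodule.subset_span ⟨Submodule.Quotient.mk y, rfl⟩) (hdown _ hmy)

theorem hasCoord_proj [Module.Projective (WittVector p k) M] : HasCoord M (⊥ : Ideal (WittVector p k)) := by
  obtain ⟨s, hs⟩ := Module.projective_def'.1 (inferInstance : Module.Projective (WittVector p k) M)
  refine ⟨(Finsupp.mapRange.linearMap (Submodule.mkQ (⊥ : Ideal (WittVector p k)))).comp s, fun m c hc => ?_⟩
  have : c = s m := Finsupp.mapRange_injective _ (map_zero _) (fun a b hab => by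
    simpa [sub_eq_zero] using Ideal.Quotient.eq.1 hab) hc
  rw [this]
  exact LinearMap.congr_fun hs m

theorem hasCoord_trunc (J : Ideal (WittVector p k)) [Module ((WittVector p k) ⧸ J) M] [IsScalarTower (WittVector p k) ((WittVector p k) ⧸ J) M] [Module.Projective ((WittVector p k) ⧸ J) M] :
    HasCoord M J := by
  obtain ⟨s, hs⟩ := Module.projective_def'.1 (inferInstance : Module.Projective ((WittVector p k) ⧸ J) M)
  refine ⟨s.restrictScalars (WittVector p k), fun m c hc => ?_⟩
  refine Eq.trans ?_ (LinearMap.congr_fun hs m)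
  show _ = Finsupp.linearCombination ((WittVector p k) ⧸ J) id (s m)
  rw [show s m = Finsupp.mapRange (Ideal.Quotient.mk J) (map_zero _) c from hc.symm]
  clear hc
  induction c using Finsupp.induction_linear with
  | zero => simp
  | add f g hf hg => rw [Finsupp.mapRange_add (fun _ _ => map_add _ _ _), map_add, map_add, hf, hg]
  | single i a =>
    rw [Finsupp.mapRange_single, Finsupp.linearCombination_single, Finsupp.linearCombination_single]
    exact (IsScalarTower.algebraMap_smul (WittVector p k ⧸ J) a i).symm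

theorem finite_quot_of_trunc (J : Ideal (WittVector p k)) [Module ((WittVector p k) ⧸ J) M] [IsScalarTower (WittVector p k) ((WittVector p k) ⧸ J) M] [Module.Finite ((WittVector p k) ⧸ J) M] :
    Module.Finite ((WittVector p k) ⧸ P p k) (M ⧸ PM p k M) :=
  haveI : Module.Finite (WittVector p k) M := Module.Finite.trans ((WittVector p k) ⧸ J) M
  Module.Finite.of_restrictScalars_finite (WittVector p k) _ _

theorem hJq_bot (q : Ideal k) (hq : q.IsPrime) (c : (WittVector p k)) (hc : (p : (WittVector p k)) * c ∈ aId p k q ⊔ ⊥) : c ∈ aId p k q ⊔ P p k := by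
  haveI := hq
  rw [sup_bot_eq] at hc
  exact le_sup_left (a := aId p k q) (of_p_mul p k hc)

theorem hJq_pow (n : ℕ) (hn : 2 ≤ n) (q : Ideal k) (hq : q.IsPrime) (c : (WittVector p k))
    (hc : (p : (WittVector p k)) * c ∈ aId p k q ⊔ Ideal.span {(p : (WittVector p k)) ^ n}) : c ∈ aId p k q ⊔ P p k := by
  haveI := hq
  obtain ⟨a, ha, b, hb, hab⟩ := Submodule.mem_sup.1 hc
  obtain ⟨d, rfl⟩ := Ideal.mem_span_singleton'.1 hb
  obtain ⟨m, rfl⟩ : ∃ m, n = m + 2 := ⟨n - 2, by omega⟩
  have h1 : c - d * (p : (WittVector p k)) ^ (m + 1) ∈ aId p k q := of_p_mul p k (by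
    have : (p : (WittVector p k)) * (c - d * (p : (WittVector p k)) ^ (m + 1)) = a := by rw [mul_sub, ← hab]; ring
    rwa [this])
  exact Submodule.mem_sup.2 ⟨_, h1, _, Ideal.mem_span_singleton'.2 ⟨d * (p : (WittVector p k)) ^ m, rfl⟩, by ring⟩

include hFV hVF in
theorem comap_eq [Module.Projective (WittVector p k) M] :
    (PM p k M).comap F = Submodule.span (WittVector p k) (Set.range V) ⊔ PM p k M ∧
      (PM p k M).comap V = Submodule.span (WittVector p k) (Set.range F) ⊔ PM p k M := by
  have htf : ∀ z : M, (p : (WittVector p k)) • z = 0 → z = 0 := fun z hz => by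
    have h2 := mem_of_p_smul (I := (⊥ : Ideal (WittVector p k))) (I' := (⊥ : Ideal (WittVector p k))) (hasCoord_proj (p := p) (k := k) (M := M)) (fun c hc => by
      rw [sup_bot_eq, Ideal.mem_bot] at hc
      exact Ideal.mem_bot.2 (WittVector.eq_zero_of_p_mul_eq_zero c (by rw [mul_comm]; exact hc)))
      (z := z) (by rw [hz]; exact zero_mem _)
    simpa using h2
  constructor <;> apply le_antisymm
  · intro m hm
    obtain ⟨y, hy⟩ := exists_of_mem_PM (Submodule.mem_comap.1 hm)
    have : m - V y = 0 := htf _ (by rw [← hVF, map_sub, hFV, hy, sub_self, map_zero])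
    rw [sub_eq_zero.1 this]
    exact le_sup_left (a := Submodule.span (WittVector p k) (Set.range V)) (Submodule.subset_span ⟨y, rfl⟩)
  · exact sup_le (Submodule.span_le.2 fun _ ⟨y, hy⟩ => hy ▸ F_V_mem F V hFV y) fun z hz => F_PM F hz
  · intro m hm
    obtain ⟨y, hy⟩ := exists_of_mem_PM (Submodule.mem_comap.1 hm)
    have : m - F y = 0 := htf _ (by rw [← hFV, map_sub, hVF, hy, sub_self, map_zero])
    rw [sub_eq_zero.1 this]
    exact le_sup_left (a := Submodule.span (WittVector p k) (Set.range F)) (Submodule.subset_span ⟨y, rfl⟩)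
  · refine sup_le (Submodule.span_le.2 fun _ ⟨y, hy⟩ => hy ▸ ?_) fun z hz => V_PM V hz
    show V (F y) ∈ PM p k M
    rw [hVF]
    exact Submodule.smul_mem_smul (Ideal.mem_span_singleton_self _) Submodule.mem_top

end

end

end Groth.Agent.DieuPerf.Witt
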