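import Mathlib.RingTheory.WittVector.Truncated
import Mathlib.RingTheory.WittVector.Identities
import Mathlib.RingTheory.WittVector.Domain
import Mathlib.RingTheory.AdicCompletion.Basic
import Mathlib.RingTheory.Henselian
import Mathlib.Dynamics.Newton
import Mathlib.GroupTheory.OrderOfElement
import Mathlib.Data.ZMod.Basic
import Mathlib.RingTheory.Jacobson.Ideal
import Groth.Prelude.Def_W4c1extbt610Disp

/-!
Witt vectors of a `p`-complete ring form a henselian pair along the kernel of the first component.
-/

set_option autoImplicit false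

universe u

open Polynomial

namespace Groth.Agent.DieuPerf.WittHensel

variable {p : ℕ} [hp : Fact p.Prime]

theorem mem_IV_iff {R : Type u} [CommRing R] (x : WittVector p R) :
    x ∈ W4c1extbt610.IV p R ↔ x.coeff 0 = 0 := by
  constructor
  · intro hx
    have h : W4c1extbt610.IV p R ≤ RingHom.ker (WittVector.constantCoeff : WittVector p R →+* R) :=
      Ideal.span_le.2 fun _ ⟨w, hw⟩ => by subst hw; exact WittVector.verschiebung_coeff_zero w
    exact h hx
  · intro hx
    have : x = WittVector.verschiebung (x.shift 1) := by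
      simpa using WittVector.eq_iterate_verschiebung (x := x) (n := 1) (fun i hi => by
        obtain rfl : i = 0 := by omega
        exact hx)
    rw [this]
    exact W4c1extbt610.verschiebung_mem_IV p R _

theorem truncate_p_nilpotent {S : Type u} [CommRing S] (j n : ℕ) (h : (p : S) ^ j = 0) :
    IsNilpotent (WittVector.truncate n (p : WittVector p S)) := by
  haveI : NeZero (p ^ j) := ⟨pow_ne_zero _ hp.out.ne_zero⟩
  let φ : ZMod (p ^ j) →+* S := ZMod.castHom (m := ringChar S) (ringChar.dvd (by exact_mod_cast h)) S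
  have h1 : IsNilpotent (WittVector.truncate n (p : WittVector p (ZMod (p ^ j)))) := by
    refine ⟨j * n, ?_⟩
    rw [map_natCast, ← Nat.cast_pow]
    have hc : Fintype.card (TruncatedWittVector p n (ZMod (p ^ j))) = p ^ (j * n) := by
      rw [TruncatedWittVector.card, ZMod.card, ← pow_mul]
    have h2 := card_nsmul_eq_zero (G := TruncatedWittVector p n (ZMod (p ^ j))) (x := 1)
    rwa [hc, nsmul_eq_mul, mul_one] at h2
  obtain ⟨N, hN⟩ := h1
  refine ⟨N, ?_⟩
  rw [← map_pow, ← RingHom.mem_ker, WittVector.mem_ker_truncate] at hN ⊢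
  intro i hi
  have h3 : WittVector.map φ ((p : WittVector p (ZMod (p ^ j))) ^ N) = (p : WittVector p S) ^ N := by
    rw [map_pow, map_natCast]
  rw [← h3, WittVector.map_coeff, hN i hi, map_zero]

variable {R : Type u} [CommRing R]

/-- reduction to finite level -/
noncomputable def red (m : ℕ) : WittVector p R →+*
    TruncatedWittVector p (m + 1) (R ⧸ Ideal.span {(p : R)} ^ (m + 1)) :=
  (WittVector.truncate (m + 1)).comp (WittVector.map (Ideal.Quotient.mk (Ideal.span {(p : R)} ^ (m + 1))))

theorem red_surjective (m : ℕ) : Function.Surjective (red (p := p) (R := R) m) :=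
  (WittVector.truncate_surjective (p := p) _ _).comp (WittVector.map_surjective _ Ideal.Quotient.mk_surjective)

theorem red_eq_iff (m : ℕ) (x y : WittVector p R) : red m x = red m y ↔
    ∀ i < m + 1, x.coeff i - y.coeff i ∈ Ideal.span {(p : R)} ^ (m + 1) := by
  rw [TruncatedWittVector.ext_iff]
  constructor
  · intro h i hi
    have := h ⟨i, hi⟩
    rw [red, RingHom.comp_apply, RingHom.comp_apply, WittVector.coeff_truncate, WittVector.coeff_truncate,
      WittVector.map_coeff, WittVector.map_coeff, Ideal.Quotient.eq] at this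
    exact this
  · intro h i
    rw [red, RingHom.comp_apply, RingHom.comp_apply, WittVector.coeff_truncate, WittVector.coeff_truncate,
      WittVector.map_coeff, WittVector.map_coeff, Ideal.Quotient.eq]
    exact h i i.2

theorem red_mono {m m' : ℕ} (h : m ≤ m') {x y : WittVector p R} (he : red m' x = red m' y) : red m x = red m y :=
  (red_eq_iff m x y).2 fun i hi =>
    Ideal.pow_le_pow_right (by omega) ((red_eq_iff m' x y).1 he i (by omega))

theorem red_nilpotent (m : ℕ) {x : WittVector p R} (hx : x ∈ W4c1extbt610.IV p R) : IsNilpotent (red m x) := by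
  have hp' : IsNilpotent (red (R := R) m (p : WittVector p R)) := by
    rw [red, RingHom.comp_apply, map_natCast]
    exact truncate_p_nilpotent (m + 1) (m + 1) (by
      rw [← map_natCast (Ideal.Quotient.mk (Ideal.span {(p : R)} ^ (m + 1))), ← map_pow, Ideal.Quotient.eq_zero_iff_mem]
      exact Ideal.pow_mem_pow (Ideal.mem_span_singleton_self _) _)
  induction hx using Submodule.span_induction with
  | mem x hx =>
    obtain ⟨w, rfl⟩ := hx
    refine IsNilpotent.of_pow (m := 2) ?_
    rw [← map_pow, sq, ← WittVector.verschiebung_mul_frobenius, WittVector.frobenius_verschiebung, ← mul_assoc,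
      mul_comm _ (p : WittVector p R), ← nsmul_eq_mul, map_nsmul, nsmul_eq_mul, map_mul]
    exact Commute.isNilpotent_mul_right (Commute.all _ _) hp'
  | zero => rw [map_zero]; exact IsNilpotent.zero
  | add a b _ _ ha hb => rw [map_add]; exact Commute.isNilpotent_add (Commute.all _ _) ha hb
  | smul a b _ hb => rw [smul_eq_mul, map_mul]; exact Commute.isNilpotent_mul_left (Commute.all _ _) hb

variable [IsAdicComplete (Ideal.span {(p : R)}) R]

theorem eq_of_mem_pow {a b : R} (h : ∀ m, a - b ∈ Ideal.span {(p : R)} ^ (m + 1)) : a = b := by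
  refine sub_eq_zero.1 (IsHausdorff.haus (I := Ideal.span {(p : R)}) inferInstance _ fun m => ?_)
  rw [SModEq.zero, smul_eq_mul, Ideal.mul_top]
  exact Ideal.pow_le_pow_right (Nat.le_succ m) (h m)

theorem eq_of_red {x y : WittVector p R} (h : ∀ m, red m x = red m y) : x = y := by
  ext i
  exact eq_of_mem_pow fun m => Ideal.pow_le_pow_right (Nat.add_le_add_right (le_max_left m i) 1)
    ((red_eq_iff _ x y).1 (h (max m i)) i (by omega))

theorem exists_glue (a : ℕ → WittVector p R) (h : ∀ m m', m ≤ m' → red m (a m') = red m (a m)) :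
    ∃ w : WittVector p R, ∀ m, red m w = red m (a m) := by
  have hc : ∀ i, ∃ L : R, ∀ m, i ≤ m → (a m).coeff i - L ∈ Ideal.span {(p : R)} ^ (m + 1) := by
    intro i
    obtain ⟨L, hL⟩ := IsPrecomplete.prec (I := Ideal.span {(p : R)}) inferInstance
      (f := fun n => (a (max n i)).coeff i) (fun {n n'} hn => by
        rw [SModEq.sub_mem, smul_eq_mul, Ideal.mul_top]
        have h1 := (red_eq_iff _ _ _).1 (h (max n i) (max n' i) (max_le_max hn le_rfl)) i (by omega)
        rw [← neg_sub]
        exact neg_mem (Ideal.pow_le_pow_right (by omega) h1))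
    refine ⟨L, fun m hm => ?_⟩
    have h1 := hL (m + 1)
    rw [SModEq.sub_mem, smul_eq_mul, Ideal.mul_top] at h1
    simp only [max_eq_left (hm.trans (Nat.le_succ m))] at h1
    have h2 := (red_eq_iff m _ _).1 (h m (m + 1) (Nat.le_succ m)) i (by omega)
    have h3 := sub_mem h1 h2
    rwa [sub_sub_sub_cancel_left] at h3
  choose L hL using hc
  refine ⟨WittVector.mk p L, fun m => (red_eq_iff m _ _).2 fun i hi => ?_⟩
  rw [WittVector.coeff_mk, ← neg_sub]
  exact neg_mem (hL i m (by omega))

theorem jac_le : W4c1extbt610.IV p R ≤ Ideal.jacobson ⊥ := fun x hx => by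
  rw [Ideal.mem_jacobson_bot]
  intro y
  have hu : ∀ m, IsUnit (red m (x * y + 1)) := fun m => by
    rw [map_add, map_one, map_mul]
    exact (Commute.isNilpotent_mul_right (Commute.all _ _) (red_nilpotent m hx)).isUnit_add_one
  have hb : ∀ m, ∃ b, red m ((x * y + 1) * b) = 1 := fun m => by
    obtain ⟨b, hb⟩ := red_surjective (p := p) (R := R) m ((hu m).unit⁻¹ : _ˣ)
    exact ⟨b, by rw [map_mul, hb]; exact (hu m).mul_val_inv⟩
  choose b hb using hb
  obtain ⟨w, hw⟩ := exists_glue b fun m m' hm => by
    refine (hu m).mul_left_cancel ?_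
    rw [← map_mul, ← map_mul, hb m, ← map_one (red (p := p) (R := R) m)]
    exact red_mono hm (by rw [hb m', map_one])
  exact IsUnit.of_mul_eq_one w (eq_of_red fun m => by rw [map_mul, hw, ← map_mul, hb, map_one])

theorem root_unique {T : Type*} [CommRing T] (g : T[X]) {x r s : T} (h1 : IsNilpotent (g.eval x))
    (h2 : IsUnit (g.derivative.eval x)) (hr : IsNilpotent (x - r)) (hr' : g.eval r = 0) (hs : IsNilpotent (x - s))
    (hs' : g.eval s = 0) : r = s :=
  (Polynomial.existsUnique_nilpotent_sub_and_aeval_eq_zero (x := x) (P := g)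
      (by rwa [Polynomial.coe_aeval_eq_eval]) (by rwa [Polynomial.coe_aeval_eq_eval])).unique
    ⟨hr, by rwa [Polynomial.coe_aeval_eq_eval]⟩ ⟨hs, by rwa [Polynomial.coe_aeval_eq_eval]⟩

theorem henselian : HenselianRing (WittVector p R) (W4c1extbt610.IV p R) where
  jac := jac_le
  is_henselian f hf a₀ h₀ hu := by
    obtain ⟨v, hv⟩ := hu.exists_right_inv
    obtain ⟨v, rfl⟩ := Ideal.Quotient.mk_surjective v
    rw [← map_mul, ← map_one (Ideal.Quotient.mk (W4c1extbt610.IV p R)), Ideal.Quotient.eq] at hv
    have hnil : ∀ m, IsNilpotent ((f.map (red m)).eval (red m a₀)) := fun m => by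
      rw [Polynomial.eval_map_apply]; exact red_nilpotent m h₀
    have hunit : ∀ m, IsUnit ((f.map (red (p := p) (R := R) m)).derivative.eval (red m a₀)) := fun m => by
      rw [Polynomial.derivative_map, Polynomial.eval_map_apply]
      refine isUnit_of_mul_isUnit_left (y := red m v) ?_
      have := (red_nilpotent m hv).isUnit_add_one
      rwa [map_sub, map_one, sub_add_cancel, map_mul] at this
    have hr : ∀ m, ∃ a, IsNilpotent (red m a₀ - red m a) ∧ (f.map (red m)).eval (red m a) = 0 := fun m => by
      obtain ⟨r, ⟨hr1, hr2⟩, -⟩ := Polynomial.existsUnique_nilpotent_sub_and_aeval_eq_zero (x := red m a₀)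
        (P := f.map (red m)) (by rw [Polynomial.coe_aeval_eq_eval]; exact hnil m)
        (by rw [Polynomial.coe_aeval_eq_eval]; exact hunit m)
      obtain ⟨a, rfl⟩ := red_surjective (p := p) (R := R) m r
      exact ⟨a, hr1, by rwa [Polynomial.coe_aeval_eq_eval] at hr2⟩
    choose a ha1 ha2 using hr
    obtain ⟨w, hw⟩ := exists_glue a fun m m' hm => by
      refine root_unique _ (hnil m) (hunit m) ?_ ?_ (ha1 m) (ha2 m)
      · obtain ⟨N, hN⟩ := ha1 m'
        refine ⟨N, ?_⟩
        rw [← map_sub, ← map_pow] at hN ⊢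
        rw [← map_zero (red (p := p) (R := R) m')] at hN
        rw [red_mono hm hN, map_zero]
      · rw [Polynomial.eval_map_apply]
        have h3 := ha2 m'
        rw [Polynomial.eval_map_apply, ← map_zero (red (p := p) (R := R) m')] at h3
        rw [red_mono hm h3, map_zero]
    have hroot : f.eval w = 0 := eq_of_red fun m => by
      rw [map_zero, ← Polynomial.eval_map_apply, hw m]
      exact ha2 m
    refine ⟨w, hroot, (mem_IV_iff _).2 ?_⟩
    let c : WittVector p R →+* R := WittVector.constantCoeff
    show c (w - a₀) = 0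
    rw [map_sub, sub_eq_zero]
    refine eq_of_mem_pow (p := p) fun m => Ideal.Quotient.eq.1 ?_
    let π : WittVector p R →+* R ⧸ Ideal.span {(p : R)} ^ (m + 1) :=
      (Ideal.Quotient.mk (Ideal.span {(p : R)} ^ (m + 1))).comp c
    have hπ : ∀ x : WittVector p R, IsNilpotent (red m x) → IsNilpotent (π x) := fun x ⟨N, hN⟩ => ⟨N, by
      rw [← map_pow]
      rw [← map_pow, ← map_zero (red (p := p) (R := R) m)] at hN
      have h4 := (red_eq_iff m _ _).1 hN 0 (Nat.succ_pos m)
      rw [WittVector.zero_coeff, sub_zero] at h4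
      exact Ideal.Quotient.eq_zero_iff_mem.2 h4⟩
    have hzero : π (f.eval a₀) = 0 := by
      show Ideal.Quotient.mk _ (c (f.eval a₀)) = 0
      rw [show c (f.eval a₀) = 0 from (mem_IV_iff _).1 h₀, map_zero]
    show π w = π a₀
    refine root_unique (f.map π) (x := π a₀) ?_ ?_ ?_ ?_ ?_ ?_
    · rw [Polynomial.eval_map_apply, hzero]; exact IsNilpotent.zero
    · rw [Polynomial.derivative_map, Polynomial.eval_map_apply]
      refine isUnit_of_mul_isUnit_left (y := π v) ?_
      have := (hπ _ (red_nilpotent m hv)).isUnit_add_one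
      rwa [map_sub, map_one, sub_add_cancel, map_mul] at this
    · rw [← map_sub]
      refine hπ _ ?_
      rw [map_sub, hw m]
      exact ha1 m
    · rw [Polynomial.eval_map_apply, hroot, map_zero]
    · rw [sub_self]; exact IsNilpotent.zero
    · rw [Polynomial.eval_map_apply, hzero]

end Groth.Agent.DieuPerf.WittHensel
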